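import Mathlib
import Cfsg.Agent.Lib.Helper19.PLength
import Cfsg.Agent.Lib.Helper23.PSolvable
import Cfsg.Agent.Lib.Helper4.PLenExpD
import Cfsg.Agent.Lib.Helper6.HHXFA
import Cfsg.Agent.Lib.Helper16.Solvable2

/-!
# S3801 (Gross: `l_2 ≤ 2e - 1`), block F, part 1 (helper23): the induction on the order

`KeyHyp`: the group-theoretic form of Gross's key lemma: if `G` is solvable with `O_{2'}(G) = 1` and all
`2`-elements have order dividing `2^(n+1)`, then for every `2`-element `x` the image of `x^(2^n)` in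
`G / O_2(G)` lies in `O_{2',2}(G / O_2(G))`.

`gross_aux`: `KeyHyp` implies `PLengthLE 2 (2 n - 1) G` for solvable `G` with `2`-exponent `2^n`, `n ≥ 1`.
-/

set_option autoImplicit false
set_option linter.unusedSectionVars false
set_option linter.unusedVariables false
set_option linter.style.haveILetI false

namespace Cfsg.Agent.Helper23.GrossF

open Cfsg Subgroup Cfsg.Agent.Helper19.PLen Cfsg.Agent.Helper23.PSolv Cfsg.Agent.Helper4.PLenExp
  Cfsg.Agent.Helper3.HHX

universe u

/-- the group form of Gross's key lemma, for groups in the universe `u` -/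
def KeyHyp : Prop :=
  ∀ (G : Type u) [Group G] [Finite G], Group.IsSolvable G → pPrimeCore 2 G = ⊥ →
    ∀ n : ℕ, (∀ z : G, (∃ k : ℕ, z ^ 2 ^ k = 1) → z ^ 2 ^ (n + 1) = 1) →
      ∀ x : G, (∃ k : ℕ, x ^ 2 ^ k = 1) →
        (QuotientGroup.mk' (pCore 2 G) x) ^ 2 ^ n ∈ pPrimePCore 2 (G ⧸ pCore 2 G)

instance fact_two_prime : Fact (Nat.Prime 2) := ⟨Nat.prime_two⟩

/-- the exponent hypothesis passes to quotients -/
theorem gf_exp_quotient {G : Type u} [Group G] [Finite G] (N : Subgroup G) [N.Normal] (n : ℕ)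
    (helem : ∀ z : G, (∃ k : ℕ, z ^ 2 ^ k = 1) → z ^ 2 ^ n = 1) :
    ∀ z : G ⧸ N, (∃ k : ℕ, z ^ 2 ^ k = 1) → z ^ 2 ^ n = 1 := by
  intro z hz
  obtain ⟨g', s, hsp, rfl⟩ := fa_pelem_quotient N z hz
  have h2 : (QuotientGroup.mk' N s) ^ 2 ^ n = 1 := by
    rw [← map_pow, helem s hsp, map_one]
  have h3 : (g' * QuotientGroup.mk' N s * g'⁻¹) ^ 2 ^ n =
      g' * (QuotientGroup.mk' N s) ^ 2 ^ n * g'⁻¹ := conj_pow
  rw [h3, h2]
  group

/-- a finite group all of whose `2`-elements are trivial has odd order -/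
theorem gf_coprime_of_no_two_elem {G : Type u} [Group G] [Finite G]
    (h : ∀ z : G, (∃ k : ℕ, z ^ 2 ^ k = 1) → z = 1) : (Nat.card G).Coprime 2 := by
  rw [Nat.coprime_comm, Nat.Prime.coprime_iff_not_dvd Nat.prime_two]
  intro hd
  haveI : Fintype G := Fintype.ofFinite G
  rw [Nat.card_eq_fintype_card] at hd
  obtain ⟨z, hz⟩ := exists_prime_orderOf_dvd_card 2 hd
  have h1 : z = 1 := h z ⟨1, by rw [pow_one, ← hz]; exact pow_orderOf_eq_one z⟩
  rw [h1, orderOf_one] at hz
  norm_num at hz


/-- all `2`-elements of `G` have trivial image in `Q` if ... : a `2`-element of a quotient is a conjugate of the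
image of a `2`-element -/
theorem gf_two_elem_quotient_trivial {G : Type u} [Group G] [Finite G] (N : Subgroup G) [N.Normal]
    (h : ∀ s : G, (∃ k : ℕ, s ^ 2 ^ k = 1) → s ∈ N) :
    ∀ z : G ⧸ N, (∃ k : ℕ, z ^ 2 ^ k = 1) → z = 1 := by
  intro z hz
  obtain ⟨g', s, hsp, rfl⟩ := fa_pelem_quotient N z hz
  have h1 : QuotientGroup.mk' N s = 1 := (QuotientGroup.eq_one_iff s).mpr (h s hsp)
  rw [h1]
  group

/-- exponent `2`, `O_{2'}(G) = 1`: every `2`-element lies in `O_2(G)` -/
theorem gf_exp_two_mem_pCore {G : Type u} [Group G] [Finite G] (hG : Group.IsSolvable G)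
    (hO : pPrimeCore 2 G = ⊥) (helem : ∀ z : G, (∃ k : ℕ, z ^ 2 ^ k = 1) → z ^ 2 ^ 1 = 1)
    (x : G) (hx : ∃ k : ℕ, x ^ 2 ^ k = 1) : x ∈ pCore 2 G := by
  have hHp : IsPGroup 2 ↥(pCore 2 G) := Cfsg.Agent.Helper10.pCore_isPGroup 2
  have hc : centralizer (pCore 2 G : Set G) ≤ pCore 2 G :=
    Cfsg.Agent.Helper16.centralizer_pCore_le_of_isSolvable 2 hG hO
  apply hc
  rw [mem_centralizer_iff]
  intro v hv
  have hZp : IsPGroup 2 ↥(zpowers x) := isPGroup_zpowers_of_pow x hx
  have hBp : IsPGroup 2 ↥(zpowers x ⊔ pCore 2 G) := hZp.to_sup_of_normal_right hHp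
  have hxB : x ∈ zpowers x ⊔ pCore 2 G := (le_sup_left : zpowers x ≤ _) (mem_zpowers x)
  have hvB : v ∈ zpowers x ⊔ pCore 2 G := (le_sup_right : pCore 2 G ≤ _) hv
  have h1 : (x * v) ^ 2 ^ 1 = 1 := helem (x * v) (exists_pow_of_mem_isPGroup hBp (mul_mem hxB hvB))
  have h2 : x ^ 2 ^ 1 = 1 := helem x hx
  have h3 : v ^ 2 ^ 1 = 1 := helem v (exists_pow_of_mem_isPGroup hHp hv)
  rw [pow_one, pow_two] at h1 h2 h3
  -- x v x v = 1, x x = 1, v v = 1 ⇒ v x = x v
  have hx' : x⁻¹ = x := inv_eq_of_mul_eq_one_right h2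
  have hv' : v⁻¹ = v := inv_eq_of_mul_eq_one_right h3
  have h4 : (x * v)⁻¹ = x * v := inv_eq_of_mul_eq_one_right h1
  rw [mul_inv_rev, hx', hv'] at h4
  exact h4

/-- the induction: `KeyHyp` gives Gross's bound -/
theorem gross_aux (hK : KeyHyp.{u}) : ∀ (m : ℕ) (G : Type u) [Group G] [Finite G],
    Nat.card G = m → Group.IsSolvable G →
    ∀ n : ℕ, 1 ≤ n → (∀ z : G, (∃ k : ℕ, z ^ 2 ^ k = 1) → z ^ 2 ^ n = 1) →
      PLengthLE 2 (2 * n - 1) G := by
  intro m
  induction m using Nat.strong_induction_on with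
  | _ m ih =>
  intro G _ _ hm hG n hn helem
  by_cases hO : pPrimeCore 2 G = ⊥
  · -- O_{2'}(G) = 1
    set P := pCore 2 G with hP
    have hPn : P.Normal := inferInstance
    have hPp : IsPGroup 2 P := Cfsg.Agent.Helper10.pCore_isPGroup 2
    have hc : centralizer (P : Set G) ≤ P :=
      Cfsg.Agent.Helper16.centralizer_pCore_le_of_isSolvable 2 hG hO
    have hPlen : PLengthLE 2 1 P := plengthLE_one_of_isPGroup hPp
    by_cases hPbot : P = ⊥
    · have htop : (⊤ : Subgroup G) ≤ ⊥ := by
        have : centralizer ((⊥ : Subgroup G) : Set G) = ⊤ := by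
          rw [Subgroup.coe_bot]; exact Subgroup.centralizer_eq_top_iff_subset.2 (by
            intro x hx; rw [Set.mem_singleton_iff] at hx; rw [hx]; exact Subgroup.one_mem _)
        rw [hPbot, this] at hc
        exact hc
      have hcard : Nat.card G = 1 := by
        have h1 : (⊤ : Subgroup G) = ⊥ := le_bot_iff.1 htop
        rw [← Subgroup.card_top (G := G), h1]
        exact Subgroup.card_bot
      have h0 : PLengthLE 2 0 G :=
        plengthLE_zero_of_coprime (by rw [hcard]; exact Nat.coprime_one_left 2)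
      exact plengthLE_mono (Nat.zero_le _) h0
    · have hlt : Nat.card (G ⧸ P) < m := hm ▸ fa_card_quotient_lt P hPbot
      obtain ⟨n', rfl⟩ : ∃ n' : ℕ, n = n' + 1 := ⟨n - 1, by omega⟩
      rcases Nat.eq_zero_or_pos n' with hn0 | hn'
      · -- exponent 2
        subst hn0
        have hall : ∀ s : G, (∃ k : ℕ, s ^ 2 ^ k = 1) → s ∈ P :=
          fun s hs => gf_exp_two_mem_pCore hG hO helem s hs
        have hQ0 : PLengthLE 2 0 (G ⧸ P) :=
          plengthLE_zero_of_coprime
            (gf_coprime_of_no_two_elem (gf_two_elem_quotient_trivial P hall))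
        have hadd := plengthLE_add P hPlen hQ0
        exact hadd
      · -- exponent 2^(n'+1), n' ≥ 1
        set G2 := G ⧸ P with hG2
        have hG2sol : Group.IsSolvable G2 := inferInstance
        set K := pPrimeCore 2 G2 with hKdef
        have hKn : K.Normal := inferInstance
        set G3 := G2 ⧸ K with hG3
        have hG3sol : Group.IsSolvable G3 := inferInstance
        set T := pCore 2 G3 with hTdef
        have hTn : T.Normal := inferInstance
        have hTp : IsPGroup 2 T := Cfsg.Agent.Helper10.pCore_isPGroup 2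
        set G4 := G3 ⧸ T with hG4
        have hG4sol : Group.IsSolvable G4 := inferInstance
        -- the order decreases
        have hc2 : Nat.card G3 ≤ Nat.card G2 :=
          Nat.card_le_card_of_surjective _ (QuotientGroup.mk'_surjective K)
        have hc3 : Nat.card G4 ≤ Nat.card G3 :=
          Nat.card_le_card_of_surjective _ (QuotientGroup.mk'_surjective T)
        have hlt4 : Nat.card G4 < m := lt_of_le_of_lt (hc3.trans hc2) hlt
        -- the exponent of `G4`
        have hkey := hK G hG hO n' helem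
        have helem4 : ∀ z : G4, (∃ k : ℕ, z ^ 2 ^ k = 1) → z ^ 2 ^ n' = 1 := by
          intro z hz
          obtain ⟨g4, s3, hs3, rfl⟩ := fa_pelem_quotient T z hz
          obtain ⟨g3, s2, hs2, rfl⟩ := fa_pelem_quotient K s3 hs3
          obtain ⟨g2, s1, hs1, rfl⟩ := fa_pelem_quotient P s2 hs2
          have h1 : (QuotientGroup.mk' P s1) ^ 2 ^ n' ∈ pPrimePCore 2 G2 := hkey s1 hs1
          have h2 : QuotientGroup.mk' K ((QuotientGroup.mk' P s1) ^ 2 ^ n') ∈ T := h1
          have h3 : (g2 * QuotientGroup.mk' P s1 * g2⁻¹) ^ 2 ^ n' =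
              g2 * (QuotientGroup.mk' P s1) ^ 2 ^ n' * g2⁻¹ := conj_pow
          have h4 : QuotientGroup.mk' K ((g2 * QuotientGroup.mk' P s1 * g2⁻¹) ^ 2 ^ n') ∈ T := by
            rw [h3, map_mul, map_mul, map_inv]
            exact hTn.conj_mem _ h2 _
          have h5 : (g3 * QuotientGroup.mk' K (g2 * QuotientGroup.mk' P s1 * g2⁻¹) * g3⁻¹) ^ 2 ^ n'
              = g3 * (QuotientGroup.mk' K (g2 * QuotientGroup.mk' P s1 * g2⁻¹)) ^ 2 ^ n' * g3⁻¹ :=
            conj_pow
          have h6 : (g3 * QuotientGroup.mk' K (g2 * QuotientGroup.mk' P s1 * g2⁻¹) * g3⁻¹) ^ 2 ^ n'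
              ∈ T := by
            rw [h5, ← map_pow]
            exact hTn.conj_mem _ h4 _
          have h7 : (QuotientGroup.mk' T
              (g3 * QuotientGroup.mk' K (g2 * QuotientGroup.mk' P s1 * g2⁻¹) * g3⁻¹)) ^ 2 ^ n'
              = 1 := by
            rw [← map_pow]
            exact (QuotientGroup.eq_one_iff _).mpr h6
          have h8 : (g4 * QuotientGroup.mk' T
              (g3 * QuotientGroup.mk' K (g2 * QuotientGroup.mk' P s1 * g2⁻¹) * g3⁻¹) * g4⁻¹)
                ^ 2 ^ n' =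
              g4 * (QuotientGroup.mk' T
              (g3 * QuotientGroup.mk' K (g2 * QuotientGroup.mk' P s1 * g2⁻¹) * g3⁻¹)) ^ 2 ^ n'
                * g4⁻¹ := conj_pow
          rw [h8, h7]
          group
        have hih := ih _ hlt4 G4 rfl hG4sol n' hn' helem4
        have hTlen : PLengthLE 2 1 T := plengthLE_one_of_isPGroup hTp
        have hG3len := plengthLE_add T hTlen hih
        have hKlen : PLengthLE 2 0 K :=
          plengthLE_zero_of_coprime (Cfsg.Agent.Helper22.card_pPrimeCore_coprime 2)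
        have hG2len := plengthLE_add K hKlen hG3len
        have hGlen := plengthLE_add P hPlen hG2len
        have e : 1 + (0 + (1 + (2 * n' - 1))) = 2 * (n' + 1) - 1 := by omega
        rw [e] at hGlen
        exact hGlen
  · -- O_{2'}(G) ≠ 1
    set N := pPrimeCore 2 G with hN
    have hNn : N.Normal := inferInstance
    have hlt : Nat.card (G ⧸ N) < m := hm ▸ fa_card_quotient_lt N hO
    have hsolQ : Group.IsSolvable (G ⧸ N) := inferInstance
    have helemQ := gf_exp_quotient N n helem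
    have hih := ih _ hlt (G ⧸ N) rfl hsolQ n hn helemQ
    have hNlen : PLengthLE 2 0 N :=
      plengthLE_zero_of_coprime (Cfsg.Agent.Helper22.card_pPrimeCore_coprime 2)
    have hadd := plengthLE_add N hNlen hih
    rwa [zero_add] at hadd

end Cfsg.Agent.Helper23.GrossF
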