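import Mathlib
import Cfsg.Agent.Lib.S3801F.GrossFInd
import Cfsg.Agent.Lib.Helper20.HHQuadH
import Cfsg.Agent.Lib.Helper21.HHXL1
import Cfsg.Agent.Lib.Helper18.PSolvLin2

/-!
# S3801 (Gross: `l_2 ≤ 2e - 1`), block F, part 2 (helper23): the key lemma from the linear theorem (T)

`GrossT`: the linear form of Gross's theorem (T) over `LK 2 = AlgebraicClosure (ZMod 2)`: a finite solvable group `H`
with `O_2(H) = 1`, faithful on a finite-dimensional space `V`, `g ^ 2 ^ m = 1`, `(g - 1) ^ (2 ^ m - 1) = 0` on `V`: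
then `g ^ 2 ^ (m - 1) ∈ O_{2',2}(H)`.

`key_of_T`: `GrossT → KeyHyp` (apply (T) to `H = G / O_2(G)` acting on `LK 2 ⊗ O_2(G)/Φ(O_2(G))`).
-/

set_option autoImplicit false
set_option linter.unusedSectionVars false
set_option linter.unusedVariables false
set_option linter.style.haveILetI false

namespace Cfsg.Agent.Helper23.GrossF

open Module TensorProduct Cfsg Subgroup Cfsg.Agent.Helper8.FrobLin Cfsg.Agent.Helper8.HHLin
  Cfsg.Agent.Helper8.SecRep Cfsg.Agent.Helper4.ThB Cfsg.Agent.Helper4.PLenExp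
  Cfsg.Agent.Helper20.HHQ

universe u

/-- the linear form of Gross's theorem (T), for groups and spaces in the universe `u` -/
def GrossT : Prop :=
  ∀ (H : Type u) [Group H] [Finite H] (V : Type u) [AddCommGroup V] [Module (LK 2) V]
    [FiniteDimensional (LK 2) V] (ρ : H →* (V ≃ₗ[LK 2] V)), Function.Injective ρ →
    Group.IsSolvable H → pCore 2 H = ⊥ → ∀ (m : ℕ) (g : H), g ^ 2 ^ m = 1 →
    (op (ρ g) - 1) ^ (2 ^ m - 1) = 0 → g ^ 2 ^ (m - 1) ∈ pPrimePCore 2 H

theorem key_of_T (hT : GrossT.{u}) : KeyHyp.{u} := by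
  intro G _ _ hG hO n helem x hx
  classical
  set P := pCore 2 G with hP
  haveI hPn : P.Normal := inferInstance
  have hPp : IsPGroup 2 ↥P := Cfsg.Agent.Helper10.pCore_isPGroup 2
  have hc : centralizer (P : Set G) ≤ P :=
    Cfsg.Agent.Helper16.centralizer_pCore_le_of_isSolvable 2 hG hO
  have hmax : ∀ N : Subgroup G, N.Normal → IsPGroup 2 ↥N → N ≤ P :=
    fun N hN hNp => le_sSup ⟨hN, hNp⟩
  set Φ : Subgroup G := (frattini ↥P).map P.subtype with hΦ
  have hsec : IsSec P Φ 2 := fsec P hPp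
  have hΓ : (⊤ : Subgroup G) ≤ nn P Φ := ftop P
  set ρ0 := secLin hsec ⊤ hΓ with hρ0
  set ρ' := repEquiv ρ0 with hρ'
  set ρG : G →* _ := ρ'.comp (Subgroup.topEquiv (G := G)).symm.toMonoidHom with hρG
  have hρGy : ∀ y : G, op (ρG y) = ρ0 ⟨y, mem_top y⟩ := fun y => rfl
  have hker : ∀ y : G, ρG y = 1 ↔ ∀ a ∈ P, y * a * y⁻¹ * a⁻¹ ∈ Φ := by
    intro y
    rw [← secLin_eq_one_iff hsec ⊤ hΓ ⟨y, mem_top y⟩]
    constructor
    · intro h
      have h1 := congrArg op h
      rw [hρGy, op_one] at h1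
      exact h1
    · intro h
      apply Cfsg.Agent.Helper4.ThB.op_injective
      rw [hρGy, op_one]
      exact h
  have hle : P ≤ ρG.ker := by
    intro y hy
    rw [MonoidHom.mem_ker, hker]
    intro a ha
    exact hsec.comm y hy a ha
  have hge : ∀ y : G, ρG y = 1 → y ∈ P := by
    intro y hy
    apply ker_secRho_le P hPp hc hmax
    rw [MonoidHom.mem_ker, secRho_eq_one_iff]
    exact (hker y).mp hy
  set ρ := QuotientGroup.lift P ρG hle with hρ
  have hinj : Function.Injective ρ := by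
    rw [injective_iff_map_eq_one]
    intro z hz
    induction z using QuotientGroup.induction_on with
    | H y =>
      have h1 : ρG y = 1 := hz
      exact (QuotientGroup.eq_one_iff y).mpr (hge y h1)
  have hsolH : Group.IsSolvable (G ⧸ P) := inferInstance
  have hO2 : pCore 2 (G ⧸ P) = ⊥ := Cfsg.Agent.Helper18.PSolvLin.pCore_quotient_pCore_bot 2
  -- the element
  have hxN : x ^ 2 ^ (n + 1) = 1 := helem x hx
  have hg : (QuotientGroup.mk' P x) ^ 2 ^ (n + 1) = 1 := by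
    rw [← map_pow, hxN, map_one]
  -- tightness
  have hZp : IsPGroup 2 ↥(zpowers x) := isPGroup_zpowers_of_pow x hx
  have hBp : IsPGroup 2 ↥(zpowers x ⊔ P) := hZp.to_sup_of_normal_right hPp
  have hxB : x ∈ zpowers x ⊔ P := (le_sup_left : zpowers x ≤ _) (mem_zpowers x)
  have hall : ∀ v ∈ P, (x * v) ^ 2 ^ (n + 1) ∈ Φ := by
    intro v hv
    have hvB : v ∈ zpowers x ⊔ P := (le_sup_right : P ≤ _) hv
    rw [helem (x * v) (exists_pow_of_mem_isPGroup hBp (mul_mem hxB hvB))]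
    exact Φ.one_mem
  have hzero := sum_secLin_eq_zero hsec ⊤ hΓ x (mem_top x) (2 ^ (n + 1)) hxN hall
  have htight : (op (ρ (QuotientGroup.mk' P x)) - 1) ^ (2 ^ (n + 1) - 1) = 0 := by
    have h1 : op (ρ (QuotientGroup.mk' P x)) = ρ0 ⟨x, mem_top x⟩ := rfl
    rw [h1, ← geom_sum_eq (LK 2) (ρ0 ⟨x, mem_top x⟩) (n + 1)]
    exact hzero
  have hfin := hT (G ⧸ P) (LK 2 ⊗[ZMod 2] SecW hsec) ρ hinj hsolH hO2 (n + 1)
    (QuotientGroup.mk' P x) hg htight
  rw [Nat.add_sub_cancel] at hfin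
  exact hfin

end Cfsg.Agent.Helper23.GrossF
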