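import Mathlib
import Cfsg.Agent.Lib.S3801F.GrossFInd
import Cfsg.Agent.Lib.S3801F.GrossFKey

/-!
# S3801 (Gross: `l_2 ≤ 2e - 1`), block F, part 3 (helper23): the statement of S3801 from the linear theorem (T)
-/

set_option autoImplicit false
set_option linter.unusedSectionVars false
set_option linter.unusedVariables false
set_option linter.style.haveILetI false

namespace Cfsg.Agent.Helper23.GrossF

open Cfsg Subgroup Cfsg.Agent.Helper4.PLenExp

universe u

/-- the exponent hypothesis in terms of `2`-elements -/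
theorem gf_exp_elem {G : Type u} [Group G] [Finite G] (n : ℕ)
    (hexp : ∀ P : Sylow 2 G, ∀ x ∈ (P : Subgroup G), x ^ 2 ^ n = 1) :
    ∀ z : G, (∃ k : ℕ, z ^ 2 ^ k = 1) → z ^ 2 ^ n = 1 := by
  intro z hz
  obtain ⟨P, hP⟩ := (isPGroup_zpowers_of_pow z hz).exists_le_sylow
  exact hexp P z (hP (mem_zpowers z))

/-- Gross's bound on the `2`-length from the linear theorem (T) -/
theorem gross_of_T (hT : GrossT.{u}) {G : Type u} [Group G] [Finite G] (hG : Group.IsSolvable G)
    (e : ℕ) (he : 1 ≤ e) (hexp : ∀ (P : Sylow 2 G), ∀ x ∈ (P : Subgroup G), x ^ 2 ^ e = 1) :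
    Cfsg.PLengthLE 2 (2 * e - 1) G :=
  gross_aux (key_of_T hT) _ G rfl hG e he (gf_exp_elem e hexp)

end Cfsg.Agent.Helper23.GrossF
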