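import Mathlib
import Cfsg.Agent.Lib.S3801F.GrossFMain
import Cfsg.Agent.Lib.GT.GTT

/-!
# S3801 (Gross: `l_2 ≤ 2e - 1`), block F, part 4 (helper23): bridge from helper21's `GT.gross_T` to `GrossT`,
and the statement of S3801.
-/

set_option autoImplicit false
set_option linter.unusedSectionVars false
set_option linter.unusedVariables false

namespace Cfsg.Agent.Helper23.GrossF

open Cfsg Subgroup Cfsg.Agent.Helper8.SecRep Cfsg.Agent.Helper4.ThB

universe u

/-- helper21's theorem (T) gives `GrossT` -/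
theorem grossT_of_gt : GrossT.{u} := by
  intro H _ _ V _ _ _ ρ hinj hsol hO2 m g hg ht
  rcases Nat.eq_zero_or_pos m with hm | hm
  · subst hm
    rw [pow_zero, pow_one] at hg
    rw [hg, one_pow]
    exact Subgroup.one_mem _
  · exact Cfsg.Agent.Helper21.GT.gross_T hsol hO2 ρ hinj g m hm hg ht

/-- the statement of S3801 -/
theorem s3801_statement {G : Type u} [Group G] [Finite G] (hG : Group.IsSolvable G) (e : ℕ)
    (he : 1 ≤ e) (hexp : ∀ (P : Sylow 2 G), ∀ x ∈ (P : Subgroup G), x ^ 2 ^ e = 1) :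
    Cfsg.PLengthLE 2 (2 * e - 1) G :=
  gross_of_T grossT_of_gt hG e he hexp

end Cfsg.Agent.Helper23.GrossF
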